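import Groth.Agent.H1DepthFlat.Basic
import Groth.Agent.FlatLoc6.FiberComp
import Groth.Agent.FlatLoc6.Cpl
import Groth.Agent.FormCat.Descent
import Groth.Agent.S9128
import Groth.Agent.S9228
import Groth.Agent.S0376
import Groth.Agent.LC.FiniteCrit
import Groth.Prelude.Def_DualLC

/-!
# The finiteness cutoff and completion
-/

set_option autoImplicit false
set_option linter.unusedSectionVars false
set_option backward.isDefEq.respectTransparency false

universe u

open CategoryTheory
open scoped TensorProduct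

attribute [local instance] HasDerivedCategory.standard

namespace Groth.Agent.H1Cutoff

/-- Isomorphic modules have the same depth at each prime. -/
theorem depth_localized_congr {B : Type u} [CommRing B] [IsNoetherianRing B] {M N : Type u} [AddCommGroup M]
    [Module B M] [AddCommGroup N] [Module B N] [Module.Finite B M] (e : M ≃ₗ[B] N) (P : PrimeSpectrum B) :
    LocCoh.depth (Localization.AtPrime P.asIdeal) (LocalizedModule P.asIdeal.primeCompl M) =
      LocCoh.depth (Localization.AtPrime P.asIdeal) (LocalizedModule P.asIdeal.primeCompl N) := by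
  haveI : Module.Finite B N := Module.Finite.equiv e
  let e' : LocalizedModule P.asIdeal.primeCompl M ≃ₗ[Localization.AtPrime P.asIdeal]
      LocalizedModule P.asIdeal.primeCompl N :=
    LinearEquiv.ofBijective (LocalizedModule.map P.asIdeal.primeCompl e.toLinearMap)
      ⟨LocalizedModule.map_injective _ _ e.injective, LocalizedModule.map_surjective _ _ e.surjective⟩
  haveI : Module.Finite (Localization.AtPrime P.asIdeal) (LocalizedModule P.asIdeal.primeCompl M) :=
    Module.Finite.of_isLocalizedModule P.asIdeal.primeCompl (LocalizedModule.mkLinearMap _ _)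
  haveI : Module.Finite (Localization.AtPrime P.asIdeal) (LocalizedModule P.asIdeal.primeCompl N) :=
    Module.Finite.of_isLocalizedModule P.asIdeal.primeCompl (LocalizedModule.mkLinearMap _ _)
  unfold LocCoh.depth
  exact LC.idealDepth_congr _ e'

/-- The height in an upper interval is the jump of a codimension function. -/
theorem height_Ici {A : Type u} [CommRing A] [IsNoetherianRing A] {ν : PrimeSpectrum A → ℤ}
    (hcov : ∀ p q : PrimeSpectrum A, p ⋖ q → ν q = ν p + 1) (hmono : StrictMono ν) {p q : PrimeSpectrum A}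
    (h : p ≤ q) : Order.height (⟨q, h⟩ : Set.Ici p) = ((ν q - ν p).toNat : ℕ∞) := by
  refine le_antisymm (Order.height_le fun s hs => ?_) ?_
  · have h5 : ∀ k : ℕ, ∀ hk : k < s.length + 1, ν p + k ≤ ν (s ⟨k, hk⟩).1 := by
      intro k
      induction k with
      | zero => intro hk; simpa using hmono.monotone (show p ≤ (s ⟨0, hk⟩).1 from (s ⟨0, hk⟩).2)
      | succ k ih =>
        intro hk
        have h6 := ih (by omega)
        have h7 := hmono (s.step ⟨k, by omega⟩)
        simp only [Fin.castSucc_mk, Fin.succ_mk] at h7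
        push_cast
        omega
    have h8 := h5 s.length (by omega)
    have h9 : ν (s ⟨s.length, by omega⟩).1 = ν q := congrArg (fun x : Set.Ici p => ν x.1) hs
    exact_mod_cast (show s.length ≤ (ν q - ν p).toNat by omega)
  · obtain ⟨l, hl1, hl2, hl3⟩ := KFlatLib.exists_chain_of_le hcov _ q rfl p h
    let s : LTSeries (Set.Ici p) :=
      { length := l.length
        toFun := fun k => ⟨l k, hl1.trans (l.monotone (Fin.zero_le k))⟩
        step := fun k => l.step k }
    have hlast : s.last = (⟨q, h⟩ : Set.Ici p) := Subtype.ext hl2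
    rw [show (ν q - ν p).toNat = s.length by show _ = l.length; omega, ← hlast]
    exact Order.length_le_height_last

variable {A : Type u} [CommRing A] [IsNoetherianRing A]

/-- In a flat extension the minimal primes over an extended prime lie over it. -/
theorem comap_of_minimal {B : Type u} [CommRing B] [Algebra A B] [Module.Flat A B] (p : PrimeSpectrum A)
    {P : Ideal B} (hP : P ∈ (p.asIdeal.map (algebraMap A B)).minimalPrimes) :
    P.comap (algebraMap A B) = p.asIdeal := by
  haveI := hP.1.1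
  haveI : P.LiesOver (P.comap (algebraMap A B)) := ⟨rfl⟩
  have hle : p.asIdeal ≤ P.comap (algebraMap A B) := Ideal.map_le_iff_le_comap.1 hP.1.2
  obtain ⟨Q, hQle, hQ, ho⟩ := Ideal.exists_ideal_le_liesOver_of_le (p := p.asIdeal)
    (q := P.comap (algebraMap A B)) P hle
  have h1 := hP.2 ⟨hQ, Ideal.map_le_iff_le_comap.2 ho.over.le⟩ hQle
  obtain rfl : Q = P := le_antisymm hQle h1
  exact ho.over.symm

/-- The fibre of a flat extension at a minimal prime over an extended prime has depth zero. -/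
theorem fibDepth_of_minimal {B : Type u} [CommRing B] [IsNoetherianRing B] [Algebra A B] [Module.Flat A B]
    (p : PrimeSpectrum A) {P : Ideal B} [P.IsPrime] (hP : P ∈ (p.asIdeal.map (algebraMap A B)).minimalPrimes) :
    FlatLoc6.fibDepth A P B = 0 := by
  have hsupp : ∀ R : PrimeSpectrum B, R ∈ Module.support B B := fun R => by
    rw [Module.mem_support_iff]
    exact (LC.selfLoc R.asIdeal.primeCompl).toEquiv.nontrivial
  refine (FlatLoc6.fib_zero_of_minimal (A := A) B P (hsupp _) fun R _ hR hle => ?_).2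
  rw [comap_of_minimal p hP] at hle
  exact le_antisymm hR (hP.2 ⟨R.isPrime, Ideal.map_le_iff_le_comap.2 hle⟩ hR)

variable [IsLocalRing A] (hA : CAlg.IsUniversallyCatenary A)

include hA

/-- Compatible codimension functions on a universally catenary local ring and its completion. -/
theorem exists_degrees : ∃ (φ : PrimeSpectrum A → ℤ) (ν : PrimeSpectrum (EGA4.Cpl A) → ℤ),
    (∀ p q : PrimeSpectrum A, p ⋖ q → φ q = φ p + 1) ∧ StrictMono φ ∧
    (∀ p q : PrimeSpectrum (EGA4.Cpl A), p ⋖ q → ν q = ν p + 1) ∧ StrictMono ν ∧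
    ∀ (p : PrimeSpectrum A) (P : PrimeSpectrum (EGA4.Cpl A)),
      P.asIdeal ∈ (p.asIdeal.map (algebraMap A (EGA4.Cpl A))).minimalPrimes → ν P = φ p := by
  haveI := FlatLoc6.isLocalRing_cpl A
  haveI := FlatLoc6.isNoetherianRing_cpl A
  haveI := FlatLoc6.faithfullyFlat_cpl A
  haveI := FormCat.isAdicComplete_cpl (A := A)
  obtain ⟨ω, hω⟩ := Groth.Agent.S0376.result (EGA4.Cpl A)
  obtain ⟨ν, -, hcov, hmono, -⟩ := KFlatLib.exists_extDegree hω
  let m := IsLocalRing.closedPoint (EGA4.Cpl A)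
  have hcat : CAlg.IsCatenary A := hA.2 A inferInstance
  have hdim := (Groth.Agent.S9128.result A).1 hcat
  have hqd : ∀ p : PrimeSpectrum A, ringKrullDim (A ⧸ p.asIdeal) = (FormCat.qd A p.asIdeal : WithBot ℕ∞) :=
    fun p => FormCat.coe_qd A p.asIdeal p.isPrime.ne_top
  refine ⟨fun p => ν m - FormCat.qd A p.asIdeal, ν, fun p q hpq => ?_, fun p q hpq => ?_, hcov, hmono,
    fun p P hP => ?_⟩
  · have h1 := (hdim p q hpq.lt).2 hpq
    rw [hqd, hqd] at h1
    have h2 : FormCat.qd A p.asIdeal = FormCat.qd A q.asIdeal + 1 := Nat.cast_injective (R := WithBot ℕ∞) (by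
      push_cast; exact h1)
    show ν m - _ = ν m - _ + 1
    omega
  · have h1 := (hdim p q hpq).1
    rw [hqd, hqd] at h1
    have h2 : FormCat.qd A q.asIdeal < FormCat.qd A p.asIdeal := Nat.cast_lt.1 h1
    show ν m - _ < ν m - _
    omega
  · haveI : IsLocalRing (A ⧸ p.asIdeal) :=
      IsLocalRing.of_surjective' (Ideal.Quotient.mk p.asIdeal) Ideal.Quotient.mk_surjective
    have heq := (FormCat.isFormallyEquidim_quotient_iff (A := A) p.asIdeal).1 (Groth.Agent.S9228.result A hA p.asIdeal)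
    have hP' := hP
    rw [Ideal.minimalPrimes_eq_comap] at hP'
    obtain ⟨x, hx, hxP⟩ := hP'
    have hx1 := heq x hx
    rw [FormCat.ringKrullDim_cpl_quotient, hqd] at hx1
    have hk : RingHom.ker ((Ideal.Quotient.mk x).comp
        (Ideal.Quotient.mk (p.asIdeal.map (algebraMap A (EGA4.Cpl A))))) = P.asIdeal := by
      rw [← RingHom.comap_ker, Ideal.mk_ker]
      exact hxP
    have hx2 := ringKrullDim_eq_of_ringEquiv ((Ideal.quotEquivOfEq hk.symm).trans
      (RingHom.quotientKerEquivOfSurjective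
        (Ideal.Quotient.mk_surjective.comp Ideal.Quotient.mk_surjective)))
    obtain ⟨e, he1, he2⟩ := KFlatLib.ringKrullDim_quotient_eq hcov hmono P
    rw [hx1, he1] at hx2
    have h3 : e = FormCat.qd A p.asIdeal := Nat.cast_injective (R := WithBot ℕ∞) hx2
    show ν P = ν m - _
    simp only [m] at *
    omega

variable (I : Ideal A) (M : Type u) [AddCommGroup M] [Module A M] [Module.Finite A M]
  (M' : Type u) [AddCommGroup M'] [Module (EGA4.Cpl A) M'] (eM : (EGA4.Cpl A ⊗[A] M) ≃ₗ[EGA4.Cpl A] M')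

omit hA
include eM

/-- Depth in the completion is depth below plus depth of the formal fibre. -/
theorem depth_eq_add (P : PrimeSpectrum (EGA4.Cpl A)) :
    LocCoh.depth (Localization.AtPrime P.asIdeal) (LocalizedModule P.asIdeal.primeCompl M') =
      LocCoh.depth (Localization.AtPrime (P.asIdeal.comap (algebraMap A (EGA4.Cpl A))))
        (LocalizedModule (P.asIdeal.comap (algebraMap A (EGA4.Cpl A))).primeCompl M) +
          FlatLoc6.fibDepth A P.asIdeal (EGA4.Cpl A) := by
  haveI := FlatLoc6.isNoetherianRing_cpl A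
  haveI := FlatLoc6.faithfullyFlat_cpl A
  let p := PrimeSpectrum.comap (algebraMap A (EGA4.Cpl A)) P
  rw [← depth_localized_congr eM P]
  by_cases hp : p ∈ Module.support A M
  · exact (FlatLoc6.formulas_atPrime (EGA4.Cpl A) M (P.asIdeal.comap (algebraMap A (EGA4.Cpl A))) P.asIdeal rfl
      (by rw [Module.mem_support_iff]; exact (LC.selfLoc P.asIdeal.primeCompl).toEquiv.nontrivial) hp).1
  · haveI : Subsingleton (LocalizedModule P.asIdeal.primeCompl (EGA4.Cpl A ⊗[A] M)) :=
      Module.notMem_support_iff.1 fun h => hp ((H1DepthFlat.mem_support_baseChange M P).1 h)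
    haveI : Subsingleton (LocalizedModule (P.asIdeal.comap (algebraMap A (EGA4.Cpl A))).primeCompl M) :=
      Module.notMem_support_iff.1 hp
    unfold LocCoh.depth LocCoh.idealDepth
    rw [if_pos (Subsingleton.elim _ _), if_pos (Subsingleton.elim _ _), top_add]

include hA

/-- The cutoff does not grow under completion. -/
theorem cutoff_le : Dual2.cutoff (EGA4.Cpl A) (I.map (algebraMap A (EGA4.Cpl A))) M' ≤ Dual2.cutoff A I M := by
  haveI := FlatLoc6.isNoetherianRing_cpl A
  haveI := FlatLoc6.faithfullyFlat_cpl A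
  obtain ⟨φ, ν, hφc, hφm, hνc, hνm, hmin⟩ := exists_degrees hA
  refine le_iInf fun p => le_iInf fun q => le_iInf fun hpq => le_iInf fun hp => le_iInf fun hq => ?_
  obtain ⟨Q₀, hQ₀⟩ := PrimeSpectrum.comap_surjective_of_faithfullyFlat (A := A) (B := EGA4.Cpl A) q
  have hQ₀' : q.asIdeal.map (algebraMap A (EGA4.Cpl A)) ≤ Q₀.asIdeal :=
    Ideal.map_le_iff_le_comap.2 (congrArg PrimeSpectrum.asIdeal hQ₀).ge
  obtain ⟨Q, hQ, -⟩ := Ideal.exists_minimalPrimes_le hQ₀'
  haveI := hQ.1.1
  obtain ⟨P, hP, hPQ⟩ := Ideal.exists_minimalPrimes_le ((Ideal.map_mono hpq).trans hQ.1.2)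
  obtain ⟨Q, rfl⟩ : ∃ Q' : PrimeSpectrum (EGA4.Cpl A), Q'.asIdeal = Q := ⟨⟨Q, hQ.1.1⟩, rfl⟩
  obtain ⟨P, rfl⟩ : ∃ P' : PrimeSpectrum (EGA4.Cpl A), P'.asIdeal = P := ⟨⟨P, hP.1.1⟩, rfl⟩
  have eP := comap_of_minimal p hP
  have eQ := comap_of_minimal q hQ
  have hIP : ¬ I.map (algebraMap A (EGA4.Cpl A)) ≤ P.asIdeal := fun h => hp ((Ideal.map_le_iff_le_comap.1 h).trans eP.le)
  have hIQ : I.map (algebraMap A (EGA4.Cpl A)) ≤ Q.asIdeal := Ideal.map_le_iff_le_comap.2 (hq.trans eQ.ge)
  refine (iInf_le _ P).trans ((iInf_le _ Q).trans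
    ((iInf_le _ hPQ).trans ((iInf_le _ hIP).trans ((iInf_le _ hIQ).trans (le_of_eq ?_)))))
  rw [depth_eq_add M M' eM P, fibDepth_of_minimal p hP, add_zero, height_Ici hνc hνm (p := P) (q := Q) hPQ,
    height_Ici hφc hφm (p := p) (q := q) hpq, hmin p P hP, hmin q Q hQ]
  obtain ⟨p, hp'⟩ := p
  subst eP
  rfl

/-- With `S_n` formal fibres the cutoff is preserved up to `n + 1`. -/
theorem le_cutoff (n : ℕ) (hF : EGA4.HasSnFormalFibres n A) :
    min ((n : ℕ∞) + 1) (Dual2.cutoff A I M) ≤ Dual2.cutoff (EGA4.Cpl A) (I.map (algebraMap A (EGA4.Cpl A))) M' := by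
  haveI := FlatLoc6.isNoetherianRing_cpl A
  haveI := FlatLoc6.faithfullyFlat_cpl A
  obtain ⟨φ, ν, hφc, hφm, hνc, hνm, hmin⟩ := exists_degrees hA
  refine le_iInf fun P => le_iInf fun Q => le_iInf fun hPQ => le_iInf fun hP => le_iInf fun hQ => ?_
  let p := PrimeSpectrum.comap (algebraMap A (EGA4.Cpl A)) P
  let q := PrimeSpectrum.comap (algebraMap A (EGA4.Cpl A)) Q
  have hpq : p ≤ q := Ideal.comap_mono hPQ
  have hIp : ¬ I ≤ p.asIdeal := fun h => hP (Ideal.map_le_iff_le_comap.2 h)
  have hIq : I ≤ q.asIdeal := Ideal.map_le_iff_le_comap.1 hQ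
  have hlt : P < Q := lt_of_le_of_ne hPQ fun h => hP (h ▸ hQ)
  obtain ⟨P₀, hP₀, hP₀P⟩ := Ideal.exists_minimalPrimes_le
    (show p.asIdeal.map (algebraMap A (EGA4.Cpl A)) ≤ P.asIdeal from Ideal.map_comap_le)
  obtain ⟨P₀, rfl⟩ : ∃ P' : PrimeSpectrum (EGA4.Cpl A), P'.asIdeal = P₀ := ⟨⟨P₀, hP₀.1.1⟩, rfl⟩
  obtain ⟨Q₀, hQ₀, hQ₀Q⟩ := Ideal.exists_minimalPrimes_le
    (show q.asIdeal.map (algebraMap A (EGA4.Cpl A)) ≤ Q.asIdeal from Ideal.map_comap_le)
  obtain ⟨Q₀, rfl⟩ : ∃ P' : PrimeSpectrum (EGA4.Cpl A), P'.asIdeal = Q₀ := ⟨⟨Q₀, hQ₀.1.1⟩, rfl⟩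
  have e1 := hmin p P₀ hP₀
  have e2 := hmin q Q₀ hQ₀
  have m1 := hνm.monotone (show P₀ ≤ P from hP₀P)
  have m2 := hνm.monotone (show Q₀ ≤ Q from hQ₀Q)
  have m3 := hνm hlt
  have m4 := hφm.monotone hpq
  have hfd : ((ν P - φ p).toNat : WithBot ℕ∞) ≤ FlatLoc6.fibDim A P.asIdeal (EGA4.Cpl A) := by
    rw [(FlatLoc6.fib_eq_loc p.asIdeal P.asIdeal rfl).1]
    have h1 := LC.height_map_mk_le_supportDim_localized (EGA4.Cpl A ⧸ p.asIdeal.map (algebraMap A (EGA4.Cpl A)))
      P₀ P hP₀P (by
        rw [Module.mem_support_iff_of_finite, Ideal.annihilator_quotient]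
        exact hP₀.1.2)
    rw [← LC.height_Ici_eq P₀ P hP₀P, height_Ici hνc hνm (p := P₀) (q := P) hP₀P, e1] at h1
    exact h1
  have hfib := FlatLoc6.fib_le_of_fiber_hasSk n p.asIdeal P.asIdeal rfl (hF p.asIdeal)
  have hd := depth_eq_add M M' eM P
  rw [hd, height_Ici hνc hνm (p := P) (q := Q) hPQ]
  generalize FlatLoc6.fibDepth A P.asIdeal (EGA4.Cpl A) = f at hfib
  generalize FlatLoc6.fibDim A P.asIdeal (EGA4.Cpl A) = g at hfib hfd
  rcases le_total ((n : ℕ) : WithBot ℕ∞) g with hng | hgn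
  · refine (min_le_left _ _).trans ?_
    rw [min_eq_left hng] at hfib
    have h1 : (n : ℕ∞) ≤ f := WithBot.coe_le_coe.1 hfib
    refine (add_le_add h1 (Nat.one_le_cast.2 (show 1 ≤ (ν Q - ν P).toNat by omega))).trans ?_
    exact add_le_add_left le_add_self _
  · refine (min_le_right _ _).trans ?_
    rw [min_eq_right hgn] at hfib
    have h1 : ((ν P - φ p).toNat : ℕ∞) ≤ f := WithBot.coe_le_coe.1 (hfd.trans hfib)
    refine (iInf_le _ p).trans ((iInf_le _ q).trans ((iInf_le _ hpq).trans ((iInf_le _ hIp).trans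
      ((iInf_le _ hIq).trans ?_))))
    rw [height_Ici hφc hφm (p := p) (q := q) hpq, add_assoc]
    refine add_le_add_right ?_ _
    refine le_trans ?_ (add_le_add_left h1 _)
    rw [← Nat.cast_add]
    exact Nat.cast_le.2 (by omega)

end Groth.Agent.H1Cutoff
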