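import Groth.Agent.H1Cutoff.Basic
import Groth.Agent.CplFib6.QuotReg
import Groth.Agent.S11617
import Groth.Agent.S0330
import Groth.Agent.S9126
import Mathlib.RingTheory.Flat.FaithfullyFlat.Algebra
import Mathlib.RingTheory.Finiteness.Descent

/-!
# Grothendieck's finiteness theorem for universally catenary rings with CM formal fibres
-/

set_option autoImplicit false
set_option linter.unusedSectionVars false
set_option backward.isDefEq.respectTransparency false

universe u

open scoped TensorProduct

namespace Groth.Agent.H1Cutoff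

/-- A Cohen–Macaulay ring satisfies every `S_k`. -/
theorem hasSk_of_CM {R : Type u} [CommRing R] (hR : LocCoh.IsCohenMacaulayRing R) (k : ℕ) :
    LocCoh.HasSk k R R := fun p _ => by
  haveI := hR
  have h := (hR.isCohenMacaulayLocalRing_localization p).supportDim_eq_depth
  rw [Module.supportDim_eq_of_equiv (LC.selfLoc p.primeCompl), Hensel.depth_congr (LC.selfLoc p.primeCompl)]
  exact (min_le_right _ _).trans h.le

/-- Below the cutoff, read on the pairs. -/
theorem lt_cutoff_iff (A : Type u) [CommRing A] (I : Ideal A) (M : Type u) [AddCommGroup M] [Module A M] (n : ℕ) :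
    (n : ℕ∞) < Dual2.cutoff A I M ↔ ∀ (p q : PrimeSpectrum A) (h : p ≤ q), ¬ I ≤ p.asIdeal → I ≤ q.asIdeal →
      (n : ℕ∞) < LocCoh.depth (Localization.AtPrime p.asIdeal) (LocalizedModule p.asIdeal.primeCompl M) +
        Order.height (⟨q, h⟩ : Set.Ici p) := by
  unfold Dual2.cutoff
  simp only [LC.lt_iInf_nat_iff]

/-- For a quotient of a regular ring finiteness below `n` is `n < cutoff`. -/
theorem finite_iff_of_regular {A : Type u} [CommRing A] [IsNoetherianRing A] {S : Type u} [CommRing S]
    [IsRegularRing S] (π : S →+* A) (hπ : Function.Surjective π) (I : Ideal A) (M : Type u) [AddCommGroup M]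
    [Module A M] [Module.Finite A M] (n : ℕ) :
    (∀ i : ℕ, i ≤ n → Module.Finite A (LocCoh.H I i M)) ↔ (n : ℕ∞) < Dual2.cutoff A I M := by
  rw [LC.finite_iff_depth_add_codim π hπ, lt_cutoff_iff]
  refine ⟨fun h p q hpq hp hq => (h p hp).trans_le (add_le_add_right ?_ _), fun h p hp => ?_⟩
  · exact iInf_le (fun q : {q : PrimeSpectrum A // p ≤ q ∧ I ≤ q.asIdeal} => Order.height (⟨q.1, q.2.1⟩ : Set.Ici p))
      ⟨q, hpq, hq⟩
  · unfold SGA2.relCodim
    rw [ENat.add_iInf, LC.lt_iInf_nat_iff]
    exact fun q => h p q.1 q.2.1 hp q.2.2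

/-- Finiteness descends along a faithfully flat extension of the local cohomology. -/
theorem finite_iff_baseChange {A B : Type u} [CommRing A] [CommRing B] [IsNoetherianRing A] [IsNoetherianRing B]
    [Algebra A B] [Module.FaithfullyFlat A B] (I : Ideal A) (M M' : Type u) [AddCommGroup M] [Module A M]
    [AddCommGroup M'] [Module B M'] (eM : (B ⊗[A] M) ≃ₗ[B] M') (i : ℕ) :
    Module.Finite A (LocCoh.H I i M) ↔ Module.Finite B (LocCoh.H (I.map (algebraMap A B)) i (B ⊗[A] M)) := by
  obtain ⟨e⟩ := Groth.Agent.S11617.result A B I M i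
  constructor
  · intro h
    exact Module.Finite.equiv e
  · intro h
    haveI : Module.Finite B (B ⊗[A] LocCoh.H I i M) := Module.Finite.equiv e.symm
    exact Module.Finite.of_finite_tensorProduct_of_faithfullyFlat B

/-- Grothendieck finiteness for a universally catenary local ring with CM formal fibres. -/
theorem finite_iff_local {A : Type u} [CommRing A] [IsLocalRing A] [IsNoetherianRing A]
    (hA : CAlg.IsUniversallyCatenary A) (hF : EGA4.HasCMFormalFibres A) (I : Ideal A) (M : Type u) [AddCommGroup M]
    [Module A M] [Module.Finite A M] (n : ℕ) :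
    (∀ i : ℕ, i ≤ n → Module.Finite A (LocCoh.H I i M)) ↔ (n : ℕ∞) < Dual2.cutoff A I M := by
  haveI := FlatLoc6.isLocalRing_cpl A
  haveI := FlatLoc6.isNoetherianRing_cpl A
  haveI := FlatLoc6.faithfullyFlat_cpl A
  haveI := FormCat.isAdicComplete_cpl (A := A)
  obtain ⟨S, _, _, f, hf⟩ := CplFib6.exists_regular_cover (EGA4.Cpl A)
  haveI := CplFib6.isRegularRing_of_local S
  have h1 := finite_iff_of_regular f hf (I.map (algebraMap A (EGA4.Cpl A))) (EGA4.Cpl A ⊗[A] M) n
  have hS : ∀ k, EGA4.HasSnFormalFibres k A := fun k p _ => hasSk_of_CM (hF p) k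
  have hle := cutoff_le hA I M (EGA4.Cpl A ⊗[A] M) (LinearEquiv.refl _ _)
  have hge := le_cutoff hA I M (EGA4.Cpl A ⊗[A] M) (LinearEquiv.refl _ _) n (hS n)
  refine ((forall₂_congr fun i _ => finite_iff_baseChange I M _ (LinearEquiv.refl _ _) i).trans h1).trans
    ⟨fun h => h.trans_le hle, fun h => ?_⟩
  exact lt_of_lt_of_le (lt_min (ENat.lt_add_one_iff (ENat.natCast_ne_top n) |>.2 le_rfl) h) hge

section Localization

variable {A : Type u} [CommRing A] [IsNoetherianRing A] (p : PrimeSpectrum A)

/-- Intervals of primes below `p` are unchanged in `A_p`. -/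
theorem height_Ici_localization (P Q : PrimeSpectrum (Localization.AtPrime p.asIdeal)) (h : P ≤ Q) :
    Order.height (⟨Q, h⟩ : Set.Ici P) =
      Order.height (⟨PrimeSpectrum.comap (algebraMap A _) Q, Ideal.comap_mono h⟩ :
        Set.Ici (PrimeSpectrum.comap (algebraMap A (Localization.AtPrime p.asIdeal)) P)) := by
  let c := PrimeSpectrum.comap (algebraMap A (Localization.AtPrime p.asIdeal))
  have hinj : Function.Injective c := PrimeSpectrum.localization_comap_injective _ p.asIdeal.primeCompl
  have hmono : ∀ x y, c x ≤ c y → x ≤ y := fun x y hxy => by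
    show x.asIdeal ≤ y.asIdeal
    rw [← IsLocalization.map_comap p.asIdeal.primeCompl _ x.asIdeal, ← IsLocalization.map_comap p.asIdeal.primeCompl _ y.asIdeal]
    exact Ideal.map_mono hxy
  let f : Set.Ici P → Set.Ici (c P) := fun x => ⟨c x.1, Ideal.comap_mono x.2⟩
  have hf : StrictMono f := fun x y hxy => lt_of_le_of_ne (Ideal.comap_mono hxy.le)
    fun he => hxy.ne (Subtype.ext (hinj (congrArg Subtype.val he)))
  refine le_antisymm (Order.height_le_height_apply_of_strictMono f hf ⟨Q, h⟩) (Order.height_le fun s hs => ?_)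
  have hQ : ∀ k, (s k).1 ≤ c Q := fun k => by
    have := s.monotone (Fin.le_last k)
    rw [show s (Fin.last _) = s.last from rfl, hs] at this
    exact this
  have hex : ∀ k, ∃ x : PrimeSpectrum (Localization.AtPrime p.asIdeal), c x = (s k).1 := fun k => by
    have : (s k).1 ∈ Set.range c := by
      rw [PrimeSpectrum.localization_comap_range (Localization.AtPrime p.asIdeal) p.asIdeal.primeCompl]
      exact Set.disjoint_left.2 fun a ha hak => ha ((hQ k).trans (by
        exact (Ideal.comap_mono (IsLocalRing.le_maximalIdeal Q.isPrime.ne_top)).trans_eq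
          (IsLocalization.AtPrime.under_maximalIdeal (Localization.AtPrime p.asIdeal) p.asIdeal)) hak)
    exact this
  choose x hx using hex
  let t : LTSeries (Set.Ici P) :=
    { length := s.length
      toFun := fun k => ⟨x k, hmono _ _ ((s k).2.trans_eq (hx k).symm)⟩
      step := fun k => lt_of_le_of_ne (hmono _ _ (by rw [hx, hx]; exact (s.step k).le))
        fun he => (s.step k).ne (Subtype.ext ((hx _).symm.trans ((congrArg c he).trans (hx _)))) }
  have hlast : t.last = (⟨Q, h⟩ : Set.Ici P) :=
    Subtype.ext (hinj ((hx _).trans (congrArg Subtype.val hs)))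
  rw [← hlast]
  exact Order.length_le_height_last (p := t)

/-- Depth at a prime is unchanged in `A_p`. -/
theorem depth_localization (M : Type u) [AddCommGroup M] [Module A M] [Module.Finite A M]
    (P : PrimeSpectrum (Localization.AtPrime p.asIdeal)) :
    LocCoh.depth (Localization.AtPrime P.asIdeal) (LocalizedModule P.asIdeal.primeCompl (Localization.AtPrime p.asIdeal ⊗[A] M)) =
      LocCoh.depth (Localization.AtPrime (P.asIdeal.comap (algebraMap A (Localization.AtPrime p.asIdeal))))
        (LocalizedModule (P.asIdeal.comap (algebraMap A (Localization.AtPrime p.asIdeal))).primeCompl M) := by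
  let B := Localization.AtPrime p.asIdeal
  haveI : Module.Flat A B := IsLocalization.flat _ p.asIdeal.primeCompl
  let p₀ := PrimeSpectrum.comap (algebraMap A B) P
  by_cases hp : p₀ ∈ Module.support A M
  · have hmin : P.asIdeal ∈ (p₀.asIdeal.map (algebraMap A B)).minimalPrimes := by
      rw [show p₀.asIdeal.map (algebraMap A B) = P.asIdeal from IsLocalization.map_comap p.asIdeal.primeCompl B P.asIdeal]
      exact ⟨⟨P.isPrime, le_rfl⟩, fun y hy _ => hy.2⟩
    rw [(FlatLoc6.formulas_atPrime B M (P.asIdeal.comap (algebraMap A B)) P.asIdeal rfl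
      (by rw [Module.mem_support_iff]; exact (LC.selfLoc P.asIdeal.primeCompl).toEquiv.nontrivial) hp).1,
      fibDepth_of_minimal p₀ hmin, add_zero]
  · haveI : Subsingleton (LocalizedModule P.asIdeal.primeCompl (B ⊗[A] M)) :=
      Module.notMem_support_iff.1 fun h => hp ((H1DepthFlat.mem_support_baseChange M P).1 h)
    haveI : Subsingleton (LocalizedModule (P.asIdeal.comap (algebraMap A B)).primeCompl M) :=
      Module.notMem_support_iff.1 hp
    unfold LocCoh.depth LocCoh.idealDepth
    rw [if_pos (Subsingleton.elim _ _), if_pos (Subsingleton.elim _ _)]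

end Localization

/-- Grothendieck finiteness, globally. -/
theorem finite_iff {A : Type u} [CommRing A] [IsNoetherianRing A] (hA : CAlg.IsUniversallyCatenary A)
    (hF : ∀ q : PrimeSpectrum A, EGA4.HasCMFormalFibres (Localization.AtPrime q.asIdeal)) (I : Ideal A)
    (M : Type u) [AddCommGroup M] [Module A M] [Module.Finite A M] (n : ℕ) :
    (∀ i : ℕ, i ≤ n → Module.Finite A (LocCoh.H I i M)) ↔ (n : ℕ∞) < Dual2.cutoff A I M := by
  rw [Groth.Agent.S0330.result A I M n, lt_cutoff_iff]
  have key : ∀ p : PrimeSpectrum A,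
      (∀ i : ℕ, i ≤ n → Module.Finite (Localization.AtPrime p.asIdeal)
        (LocalizedModule p.asIdeal.primeCompl (LocCoh.H I i M))) ↔
      ∀ (P Q : PrimeSpectrum (Localization.AtPrime p.asIdeal)) (h : P ≤ Q),
        ¬ I.map (algebraMap A _) ≤ P.asIdeal → I.map (algebraMap A _) ≤ Q.asIdeal →
        (n : ℕ∞) < LocCoh.depth (Localization.AtPrime P.asIdeal)
          (LocalizedModule P.asIdeal.primeCompl (Localization.AtPrime p.asIdeal ⊗[A] M)) +
            Order.height (⟨Q, h⟩ : Set.Ici P) := fun p => by
    let B := Localization.AtPrime p.asIdeal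
    haveI : Module.Flat A B := IsLocalization.flat _ p.asIdeal.primeCompl
    haveI : IsNoetherianRing B := IsLocalization.isNoetherianRing p.asIdeal.primeCompl _ inferInstance
    rw [← lt_cutoff_iff, ← finite_iff_local (Groth.Agent.S9126.result A B hA) (hF p)
      (I.map (algebraMap A B)) (B ⊗[A] M) n]
    refine forall₂_congr fun i _ => ?_
    obtain ⟨e⟩ := Groth.Agent.S11617.result A B I M i
    let e' := (LocalizedModule.equivTensorProduct p.asIdeal.primeCompl (LocCoh.H I i M)).trans e
    exact ⟨fun h => Module.Finite.equiv e', fun h => Module.Finite.equiv e'.symm⟩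
  constructor
  · intro h p q hpq hp hq
    have hk := (key q).1 (fun i hi => h q.asIdeal i hi)
    let B := Localization.AtPrime q.asIdeal
    have hdisj : ∀ r : PrimeSpectrum A, r ≤ q → Disjoint (q.asIdeal.primeCompl : Set A) (r.asIdeal : Set A) :=
      fun r hr => Set.disjoint_left.2 fun a ha hat => ha (hr hat)
    let P : PrimeSpectrum B := ⟨p.asIdeal.map (algebraMap A B),
      IsLocalization.isPrime_of_isPrime_disjoint q.asIdeal.primeCompl B _ p.isPrime (hdisj p hpq)⟩
    let Q : PrimeSpectrum B := ⟨q.asIdeal.map (algebraMap A B),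
      IsLocalization.isPrime_of_isPrime_disjoint q.asIdeal.primeCompl B _ q.isPrime (hdisj q le_rfl)⟩
    have eP : PrimeSpectrum.comap (algebraMap A B) P = p := PrimeSpectrum.ext
      (IsLocalization.comap_map_of_isPrime_disjoint q.asIdeal.primeCompl B p.isPrime (hdisj p hpq))
    have eQ : PrimeSpectrum.comap (algebraMap A B) Q = q := PrimeSpectrum.ext
      (IsLocalization.comap_map_of_isPrime_disjoint q.asIdeal.primeCompl B q.isPrime (hdisj q le_rfl))
    have h2 := hk P Q (Ideal.map_mono hpq)
      (fun hc => hp ((Ideal.map_le_iff_le_comap.1 hc).trans (congrArg PrimeSpectrum.asIdeal eP).le))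
      (Ideal.map_mono hq)
    rw [depth_localization q M P, height_Ici_localization q P Q (Ideal.map_mono hpq)] at h2
    have fin : ∀ (a b : PrimeSpectrum A) (hab : a ≤ b), a = p → b = q →
        (n : ℕ∞) < LocCoh.depth (Localization.AtPrime a.asIdeal) (LocalizedModule a.asIdeal.primeCompl M) +
          Order.height (⟨b, hab⟩ : Set.Ici a) →
        (n : ℕ∞) < LocCoh.depth (Localization.AtPrime p.asIdeal) (LocalizedModule p.asIdeal.primeCompl M) +
          Order.height (⟨q, hpq⟩ : Set.Ici p) := by
      rintro a b hab rfl rfl h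
      exact h
    exact fin (PrimeSpectrum.comap (algebraMap A B) P) (PrimeSpectrum.comap (algebraMap A B) Q)
      (Ideal.comap_mono (Ideal.map_mono hpq)) eP eQ h2
  · intro h p _
    refine (key ⟨p, inferInstance⟩).2 fun P Q hPQ hP hQ => ?_
    let B := Localization.AtPrime (⟨p, inferInstance⟩ : PrimeSpectrum A).asIdeal
    rw [depth_localization ⟨p, inferInstance⟩ M P, height_Ici_localization ⟨p, inferInstance⟩ P Q hPQ]
    exact h (PrimeSpectrum.comap (algebraMap A B) P) (PrimeSpectrum.comap (algebraMap A B) Q)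
      (Ideal.comap_mono hPQ) (fun hc => hP (Ideal.map_le_iff_le_comap.2 hc)) (Ideal.map_le_iff_le_comap.1 hQ)

end Groth.Agent.H1Cutoff
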